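import Mathlib

set_option autoImplicit false
set_option linter.style.haveILetI false

universe u

open TensorProduct

set_option maxHeartbeats 1000000
set_option synthInstance.maxHeartbeats 100000

namespace Groth.Agent.EtSec52

/-- A map to a finite projective module over a local ring which is bijective on the closed fibre is bijective. -/
theorem bijective_of_residueField {L : Type u} [CommRing L] [IsLocalRing L]
    {M N : Type u} [AddCommGroup M] [Module L M] [Module.Finite L M] [AddCommGroup N] [Module L N]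
    [Module.Finite L N] [Module.Projective L N] (f : M →ₗ[L] N)
    (h : Function.Bijective (f.baseChange (IsLocalRing.ResidueField L))) : Function.Bijective f := by
  let K := IsLocalRing.ResidueField L
  have hf : Function.Surjective f := by
    rw [← LinearMap.range_eq_top, ← Submodule.Quotient.subsingleton_iff,
      ← IsLocalRing.subsingleton_tensorProduct (R := L)]
    refine subsingleton_of_forall_eq 0 fun z => ?_
    obtain ⟨w, rfl⟩ := LinearMap.lTensor_surjective K (LinearMap.range f).mkQ_surjective z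
    obtain ⟨y, rfl⟩ := h.2 w
    show ((LinearMap.range f).mkQ.lTensor K) (f.lTensor K y) = 0
    rw [← LinearMap.lTensor_comp_apply, LinearMap.range_mkQ_comp, LinearMap.lTensor_zero, LinearMap.zero_apply]
  refine ⟨?_, hf⟩
  obtain ⟨s, hs⟩ := Module.projective_lifting_property f LinearMap.id hf
  let p : M →ₗ[L] LinearMap.ker f := (LinearMap.id - s ∘ₗ f).codRestrict (LinearMap.ker f) fun x => by
    simp [show f (s (f x)) = f x from LinearMap.congr_fun hs (f x)]
  have hp : p ∘ₗ (LinearMap.ker f).subtype = LinearMap.id := by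
    ext x
    simp [p, LinearMap.mem_ker.1 x.2]
  haveI : Module.Finite L (LinearMap.ker f) :=
    Module.Finite.of_surjective p fun x => ⟨x, LinearMap.congr_fun hp x⟩
  have hsub : Subsingleton (K ⊗[L] LinearMap.ker f) := by
    refine subsingleton_of_forall_eq 0 fun z => ?_
    have h0 : f.baseChange K ((LinearMap.ker f).subtype.lTensor K z) = 0 := by
      show f.lTensor K _ = 0
      rw [← LinearMap.lTensor_comp_apply, LinearMap.comp_ker_subtype, LinearMap.lTensor_zero, LinearMap.zero_apply]
    have h1 : (LinearMap.ker f).subtype.lTensor K z = 0 := h.1 (h0.trans (map_zero _).symm)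
    have h2 := congrArg (p.lTensor K) h1
    rwa [← LinearMap.lTensor_comp_apply, hp, LinearMap.lTensor_id, map_zero, LinearMap.id_apply] at h2
  haveI : Subsingleton (LinearMap.ker f) := IsLocalRing.subsingleton_tensorProduct.1 hsub
  rw [← LinearMap.ker_eq_bot]
  exact Submodule.eq_bot_of_subsingleton

section Sections

variable {A B₁ B₂ K : Type u} [CommRing A] [CommRing B₁] [CommRing B₂] [Algebra A B₁] [Algebra A B₂]
  [Algebra B₂ B₁] [IsScalarTower A B₂ B₁] [Field K] [Algebra A K] [Algebra B₁ K] [Algebra B₂ K]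
  [IsScalarTower A B₁ K] [IsScalarTower A B₂ K]
  (σ₁ : B₁ →ₐ[A] A) (σ₂ : B₂ →ₐ[A] A) (hσ : σ₁.comp (IsScalarTower.toAlgHom A B₂ B₁) = σ₂)
  (hle : RingHom.ker σ₂ ≤ (RingHom.ker σ₁).comap (IsScalarTower.toAlgHom A B₂ B₁))
  (hcot : Function.Bijective
    (Ideal.mapCotangent (RingHom.ker σ₂) (RingHom.ker σ₁) (IsScalarTower.toAlgHom A B₂ B₁) hle))
  (hev₁ : ∀ (b : B₁) (x : K), b • x = σ₁ b • x) (hev₂ : ∀ (b : B₂) (x : K), b • x = σ₂ b • x)

include hev₁ hcot in
theorem derivation_eq_zero (d : Derivation A B₁ K) (hd : ∀ b : B₂, d (algebraMap B₂ B₁ b) = 0) : d = 0 := by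
  have hsq : ∀ x ∈ (RingHom.ker σ₁) ^ 2, d x = 0 := by
    intro x hx
    rw [pow_two] at hx
    refine Submodule.mul_induction_on hx (fun a ha b hb => ?_) (fun a b ha hb => ?_)
    · rw [Derivation.leibniz, hev₁ a, hev₁ b, RingHom.mem_ker.1 ha, RingHom.mem_ker.1 hb, zero_smul,
        zero_smul, add_zero]
    · rw [map_add, ha, hb, add_zero]
  ext b
  have hb : b - algebraMap A B₁ (σ₁ b) ∈ RingHom.ker σ₁ := by simp [RingHom.mem_ker]
  obtain ⟨z, hz⟩ := hcot.2 ((RingHom.ker σ₁).toCotangent ⟨_, hb⟩)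
  obtain ⟨⟨y, hy⟩, rfl⟩ := Ideal.toCotangent_surjective _ z
  have hz' : (RingHom.ker σ₁).toCotangent ⟨algebraMap B₂ B₁ y, hle hy⟩ =
      (RingHom.ker σ₁).toCotangent ⟨_, hb⟩ := hz
  rw [Ideal.toCotangent_eq] at hz'
  have h0 := hsq _ hz'
  rw [map_sub, hd, zero_sub, neg_eq_zero, map_sub, Derivation.map_algebraMap, sub_zero] at h0
  simpa using h0

include hev₁ hev₂ hσ hcot in
theorem exists_derivation (d : Derivation A B₂ K) :
    ∃ e : Derivation A B₁ K, ∀ b : B₂, e (algebraMap B₂ B₁ b) = d b := by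
  have hsq : ∀ x ∈ (RingHom.ker σ₂) ^ 2, d x = 0 := by
    intro x hx
    rw [pow_two] at hx
    refine Submodule.mul_induction_on hx (fun a ha b hb => ?_) (fun a b ha hb => ?_)
    · rw [Derivation.leibniz, hev₂ a, hev₂ b, RingHom.mem_ker.1 ha, RingHom.mem_ker.1 hb, zero_smul,
        zero_smul, add_zero]
    · rw [map_add, ha, hb, add_zero]
  have hmap : ∀ (y : B₂) (hy : y ∈ RingHom.ker σ₂),
      Ideal.mapCotangent (RingHom.ker σ₂) (RingHom.ker σ₁) (IsScalarTower.toAlgHom A B₂ B₁) hle
        ((RingHom.ker σ₂).toCotangent ⟨y, hy⟩) =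
      (RingHom.ker σ₁).toCotangent ⟨algebraMap B₂ B₁ y, hle hy⟩ := fun y hy => rfl
  have huniq : ∀ y ∈ RingHom.ker σ₂, algebraMap B₂ B₁ y ∈ (RingHom.ker σ₁) ^ 2 → d y = 0 := by
    intro y hy h
    refine hsq y ((Ideal.toCotangent_eq_zero _ ⟨y, hy⟩).1 (hcot.1 ?_))
    rw [hmap y hy, map_zero]
    exact (Ideal.toCotangent_eq_zero _ ⟨algebraMap B₂ B₁ y, hle hy⟩).2 h
  have hex : ∀ b : B₁, ∃ y ∈ RingHom.ker σ₂,
      algebraMap B₂ B₁ y - (b - algebraMap A B₁ (σ₁ b)) ∈ (RingHom.ker σ₁) ^ 2 := by
    intro b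
    have hb : b - algebraMap A B₁ (σ₁ b) ∈ RingHom.ker σ₁ := by simp [RingHom.mem_ker]
    obtain ⟨z, hz⟩ := hcot.2 ((RingHom.ker σ₁).toCotangent ⟨_, hb⟩)
    obtain ⟨⟨y, hy⟩, rfl⟩ := Ideal.toCotangent_surjective _ z
    rw [hmap y hy, Ideal.toCotangent_eq] at hz
    exact ⟨y, hy, hz⟩
  choose Y hY hY' using hex
  have key : ∀ b : B₁, ∀ y ∈ RingHom.ker σ₂,
      algebraMap B₂ B₁ y - (b - algebraMap A B₁ (σ₁ b)) ∈ (RingHom.ker σ₁) ^ 2 → d (Y b) = d y := by
    intro b y hy h
    rw [← sub_eq_zero, ← map_sub]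
    refine huniq _ (sub_mem (hY b) hy) ?_
    convert sub_mem (hY' b) h using 1
    rw [map_sub]
    ring
  let g : B₁ →ₗ[A] K :=
    { toFun := fun b => d (Y b)
      map_add' := fun b c => by
        rw [← map_add]
        refine key _ _ (add_mem (hY b) (hY c)) ?_
        convert add_mem (hY' b) (hY' c) using 1
        simp only [map_add]
        ring
      map_smul' := fun r b => by
        rw [RingHom.id_apply, ← Derivation.map_smul]
        refine key _ _ (Submodule.smul_of_tower_mem _ r (hY b)) ?_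
        convert Submodule.smul_of_tower_mem _ r (hY' b) using 1
        rw [Algebra.smul_def r (Y b), map_mul, ← IsScalarTower.algebraMap_apply]
        simp only [Algebra.smul_def, map_mul, AlgHom.commutes, Algebra.algebraMap_self, RingHom.id_apply]
        ring }
  have hg : ∀ b c, g (b * c) = b • g c + c • g b := by
    intro b c
    rw [hev₁ b, hev₁ c]
    show d (Y (b * c)) = σ₁ b • d (Y c) + σ₁ c • d (Y b)
    rw [← Derivation.map_smul, ← Derivation.map_smul, ← map_add]
    refine key _ _ (add_mem (Submodule.smul_of_tower_mem _ _ (hY c)) (Submodule.smul_of_tower_mem _ _ (hY b))) ?_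
    have h1 := Ideal.mul_mem_left _ (algebraMap A B₁ (σ₁ b)) (hY' c)
    have h2 := Ideal.mul_mem_left _ (algebraMap A B₁ (σ₁ c)) (hY' b)
    have h3 : (b - algebraMap A B₁ (σ₁ b)) * (c - algebraMap A B₁ (σ₁ c)) ∈ (RingHom.ker σ₁) ^ 2 := by
      rw [pow_two]
      exact Ideal.mul_mem_mul (by simp [RingHom.mem_ker]) (by simp [RingHom.mem_ker])
    convert sub_mem (add_mem h1 h2) h3 using 1
    simp only [map_add, map_mul, Algebra.smul_def, ← IsScalarTower.algebraMap_apply]
    ring
  refine ⟨Derivation.mk' g hg, fun b => ?_⟩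
  show d (Y (algebraMap B₂ B₁ b)) = d b
  have hb : b - algebraMap A B₂ (σ₂ b) ∈ RingHom.ker σ₂ := by simp [RingHom.mem_ker]
  rw [key _ _ hb ?_, map_sub, Derivation.map_algebraMap, sub_zero]
  rw [map_sub, ← IsScalarTower.algebraMap_apply, ← hσ]
  simp

end Sections

section Fibre

variable {A B₁ B₂ L K : Type u} [CommRing A] [CommRing B₁] [CommRing B₂] [CommRing L] [Field K]
  [Algebra A B₁] [Algebra A B₂] [Algebra B₂ B₁] [Algebra A L] [Algebra B₁ L] [Algebra B₂ L]
  [IsScalarTower A B₂ B₁] [IsScalarTower A B₁ L] [IsScalarTower A B₂ L] [IsScalarTower B₂ B₁ L]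
  [Algebra A K] [Algebra B₁ K] [Algebra B₂ K] [Algebra L K]
  [IsScalarTower A L K] [IsScalarTower B₁ L K] [IsScalarTower B₂ L K] [IsScalarTower A B₁ K]
  [IsScalarTower A B₂ K]

theorem bijective_baseChange_of_derivations (S : Submonoid B₁) [IsLocalization S L]
    (hinj : ∀ d : Derivation A B₁ K, (∀ b : B₂, d (algebraMap B₂ B₁ b) = 0) → d = 0)
    (hext : ∀ d : Derivation A B₂ K, ∃ e : Derivation A B₁ K, ∀ b : B₂, e (algebraMap B₂ B₁ b) = d b) :
    Function.Bijective ((KaehlerDifferential.mapBaseChange A B₂ L).baseChange K) := by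
  let f : L ⊗[B₂] Ω[B₂⁄A] →ₗ[L] Ω[L⁄A] := KaehlerDifferential.mapBaseChange A B₂ L
  rw [← LinearMap.dualMap_bijective_iff]
  constructor
  · rw [injective_iff_map_eq_zero]
    intro ψ hψ
    let d : Derivation A L K :=
      (((ψ.restrictScalars L) ∘ₗ TensorProduct.mk L K Ω[L⁄A] 1)).compDer (KaehlerDifferential.D A L)
    have hd : ∀ l, d l = ψ (1 ⊗ₜ KaehlerDifferential.D A L l) := fun l => rfl
    have h2 : d.compAlgebraMap B₁ = 0 := hinj _ fun b => by
      have h := LinearMap.congr_fun hψ (1 ⊗ₜ[L] ((1 : L) ⊗ₜ[B₂] KaehlerDifferential.D A B₂ b))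
      rw [LinearMap.dualMap_apply, LinearMap.baseChange_tmul, LinearMap.zero_apply] at h
      show d (algebraMap B₁ L (algebraMap B₂ B₁ b)) = 0
      rw [hd, ← IsScalarTower.algebraMap_apply]
      simpa [f] using h
    have h3 : ∀ l, d l = 0 := by
      intro l
      obtain ⟨b, s, rfl⟩ := IsLocalization.exists_mk'_eq S l
      have h4 : d (algebraMap B₁ L s * IsLocalization.mk' L b s) = 0 := by
        rw [IsLocalization.mk'_spec']
        exact DFunLike.congr_fun h2 b
      rw [Derivation.leibniz, show d (algebraMap B₁ L s) = 0 from DFunLike.congr_fun h2 (s : B₁), smul_zero,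
        add_zero] at h4
      exact ((IsLocalization.map_units L s).smul_eq_zero).1 h4
    apply LinearMap.ext
    intro z
    induction z using TensorProduct.induction_on with
    | zero => simp
    | add a b ha hb => rw [map_add, map_add, ha, hb]
    | tmul c w =>
      have hc : ∀ w, ψ (1 ⊗ₜ[L] w) = 0 := by
        intro w
        have hw : w ∈ Submodule.span L (Set.range (KaehlerDifferential.D A L)) := by
          rw [KaehlerDifferential.span_range_derivation]; trivial
        induction hw using Submodule.span_induction with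
        | mem x hx => obtain ⟨l, rfl⟩ := hx; exact h3 l
        | zero => simp
        | add x y _ _ hx hy => rw [tmul_add, map_add, hx, hy, add_zero]
        | smul l x _ hx => rw [tmul_smul, LinearMap.map_smul_of_tower, hx, smul_zero]
      rw [LinearMap.zero_apply, show c ⊗ₜ[L] w = c • ((1 : K) ⊗ₜ[L] w) by
        rw [smul_tmul', smul_eq_mul, mul_one], map_smul, hc, smul_zero]
  · intro ψ
    let g₀ : Ω[B₂⁄A] →ₗ[B₂] K :=
      (((ψ.restrictScalars B₂) ∘ₗ ((TensorProduct.mk L K (L ⊗[B₂] Ω[B₂⁄A]) 1).restrictScalars B₂)) ∘ₗ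
        TensorProduct.mk B₂ L Ω[B₂⁄A] 1)
    obtain ⟨d₁, hd₁⟩ := hext (g₀.compDer (KaehlerDifferential.D A B₂))
    have hu : ∀ s : S, IsUnit (algebraMap B₁ (Module.End B₁ K) s) := by
      intro s
      rw [Module.End.isUnit_iff]
      have hs : IsUnit (algebraMap B₁ K s) := by
        rw [IsScalarTower.algebraMap_apply B₁ L K]
        exact (IsLocalization.map_units L s).map _
      constructor
      · intro a b hab
        have hab' : algebraMap B₁ K s * a = algebraMap B₁ K s * b := by
          simpa [Algebra.smul_def] using hab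
        exact hs.mul_left_cancel hab'
      · intro a
        obtain ⟨v, hv⟩ := hs
        refine ⟨(↑v⁻¹ : K) * a, ?_⟩
        show (s : B₁) • ((↑v⁻¹ : K) * a) = a
        rw [Algebra.smul_def, ← hv, ← mul_assoc, Units.mul_inv, one_mul]
    let G : Ω[L⁄A] →ₗ[B₁] K :=
      IsLocalizedModule.lift S (KaehlerDifferential.map A A B₁ L) d₁.liftKaehlerDifferential hu
    let G' : Ω[L⁄A] →ₗ[L] K := G.extendScalarsOfIsLocalization S L
    let φ : K ⊗[L] Ω[L⁄A] →ₗ[K] K := LinearMap.liftBaseChange K G'
    have hG : ∀ b : B₂, G' (KaehlerDifferential.D A L (algebraMap B₂ L b)) =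
        g₀ (KaehlerDifferential.D A B₂ b) := by
      intro b
      show G (KaehlerDifferential.D A L (algebraMap B₂ L b)) = _
      rw [IsScalarTower.algebraMap_apply B₂ B₁ L, ← KaehlerDifferential.map_D A A B₁ L,
        IsLocalizedModule.lift_apply, Derivation.liftKaehlerDifferential_comp_D, hd₁]
      rfl
    refine ⟨φ, LinearMap.ext fun z => ?_⟩
    induction z using TensorProduct.induction_on with
    | zero => simp
    | add a b ha hb => rw [map_add, map_add, ha, hb]
    | tmul c w =>
      have hc : ∀ w, G' (f w) = ψ (1 ⊗ₜ[L] w) := by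
        intro w
        induction w using TensorProduct.induction_on with
        | zero => simp
        | add a b ha hb => rw [map_add, map_add, tmul_add, map_add, ha, hb]
        | tmul l w =>
          have h1 : l ⊗ₜ[B₂] w = l • ((1 : L) ⊗ₜ[B₂] w) := by rw [smul_tmul', smul_eq_mul, mul_one]
          rw [h1, map_smul, map_smul, tmul_smul, LinearMap.map_smul_of_tower]
          congr 1
          have hw : w ∈ Submodule.span B₂ (Set.range (KaehlerDifferential.D A B₂)) := by
            rw [KaehlerDifferential.span_range_derivation]; trivial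
          clear h1
          induction hw using Submodule.span_induction with
          | mem x hx =>
            obtain ⟨b, rfl⟩ := hx
            simp only [f, KaehlerDifferential.mapBaseChange_tmul, one_smul, KaehlerDifferential.map_D, hG]
            rfl
          | zero => simp
          | add x y _ _ hx hy => simp only [tmul_add, map_add, hx, hy]
          | smul r x _ hx =>
            simp only [tmul_smul, LinearMap.map_smul_of_tower, hx]
      rw [LinearMap.dualMap_apply, LinearMap.baseChange_tmul]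
      show φ (c ⊗ₜ[L] f w) = _
      rw [LinearMap.liftBaseChange_tmul, hc, ← map_smul, smul_tmul', smul_eq_mul, mul_one]

end Fibre

theorem isEtaleAt_of_sections (A B₁ B₂ : Type u)
    [CommRing A] [CommRing B₁] [CommRing B₂] [Algebra A B₁] [Algebra A B₂] [Algebra B₂ B₁]
    [IsScalarTower A B₂ B₁] [Algebra.FinitePresentation A B₁] [Algebra.FiniteType A B₂]
    (σ₁ : B₁ →ₐ[A] A) (σ₂ : B₂ →ₐ[A] A) (hσ : σ₁.comp (IsScalarTower.toAlgHom A B₂ B₁) = σ₂)
    (hle : RingHom.ker σ₂ ≤ (RingHom.ker σ₁).comap (IsScalarTower.toAlgHom A B₂ B₁))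
    (hcot : Function.Bijective
      (Ideal.mapCotangent (RingHom.ker σ₂) (RingHom.ker σ₁) (IsScalarTower.toAlgHom A B₂ B₁) hle))
    (P : Ideal B₁) [P.IsPrime] (hP : RingHom.ker σ₁ ≤ P) [Algebra.IsSmoothAt A P] :
    Algebra.IsEtaleAt B₂ P := by
  let L := Localization.AtPrime P
  let K := IsLocalRing.ResidueField L
  haveI : IsScalarTower A B₂ L := IsScalarTower.of_algebraMap_eq fun a => by
    rw [IsScalarTower.algebraMap_apply B₂ B₁ L, ← IsScalarTower.algebraMap_apply A B₂ B₁,
      ← IsScalarTower.algebraMap_apply A B₁ L]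
  haveI : Algebra.FormallySmooth A L := inferInstanceAs (Algebra.IsSmoothAt A P)
  haveI : Algebra.EssFiniteType A L := inferInstance
  let f : L ⊗[B₂] Ω[B₂⁄A] →ₗ[L] Ω[L⁄A] := KaehlerDifferential.mapBaseChange A B₂ L
  -- the evaluation at the section
  have hev : ∀ b : B₁, algebraMap B₁ K b = algebraMap A K (σ₁ b) := by
    intro b
    have hb : b - algebraMap A B₁ (σ₁ b) ∈ P := hP (by simp [RingHom.mem_ker])
    have h0 : algebraMap B₁ K (b - algebraMap A B₁ (σ₁ b)) = 0 := by
      rw [IsScalarTower.algebraMap_apply B₁ L K]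
      exact Ideal.Quotient.eq_zero_iff_mem.2
        ((IsLocalization.AtPrime.to_map_mem_maximal_iff L P _).2 hb)
    rwa [map_sub, sub_eq_zero, ← IsScalarTower.algebraMap_apply] at h0
  have hev₁ : ∀ (b : B₁) (x : K), b • x = σ₁ b • x := fun b x => by
    rw [Algebra.smul_def, Algebra.smul_def, hev]
  have hev₂ : ∀ (b : B₂) (x : K), b • x = σ₂ b • x := fun b x => by
    rw [Algebra.smul_def, Algebra.smul_def, IsScalarTower.algebraMap_apply B₂ B₁ K, hev, ← hσ]
    rfl
  have hinj : ∀ d : Derivation A B₁ K, (∀ b : B₂, d (algebraMap B₂ B₁ b) = 0) → d = 0 :=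
    derivation_eq_zero σ₁ σ₂ hle hcot hev₁
  have hext : ∀ d : Derivation A B₂ K, ∃ e : Derivation A B₁ K, ∀ b : B₂, e (algebraMap B₂ B₁ b) = d b :=
    exists_derivation σ₁ σ₂ hσ hle hcot hev₁ hev₂
  have hbij : Function.Bijective (f.baseChange K) :=
    bijective_baseChange_of_derivations P.primeCompl hinj hext
  obtain ⟨hfi, hfs⟩ := bijective_of_residueField f hbij
  rw [Algebra.IsEtaleAt, Algebra.formallyEtale_iff]
  constructor
  · refine subsingleton_of_forall_eq 0 fun x => ?_
    obtain ⟨y, rfl⟩ := KaehlerDifferential.map_surjective A B₂ L x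
    obtain ⟨z, rfl⟩ := hfs y
    exact (KaehlerDifferential.exact_mapBaseChange_map A B₂ L).apply_apply_eq_zero z
  · refine subsingleton_of_forall_eq 0 fun x => ?_
    have h0 : Algebra.H1Cotangent.δ A B₂ L x = 0 := by
      apply hfi
      rw [map_zero]
      exact (Algebra.H1Cotangent.exact_δ_mapBaseChange A B₂ L).apply_apply_eq_zero x
    obtain ⟨y, rfl⟩ := (Algebra.H1Cotangent.exact_map_δ A B₂ L x).1 h0
    rw [Subsingleton.elim y 0, map_zero]

end Groth.Agent.EtSec52
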